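import Mathlib
import Cfsg.Agent.Lib.Forms.DicksonAction
import Cfsg.Agent.Lib.PSLBinary.Invol
import Cfsg.Agent.Lib.Classical.SmallIso
import Cfsg.Agent.Lib.GL2.Counts

/-! Centralisers of non-cyclic subgroups in `PSL₂(q)`, `q` at most `p²`. -/

set_option autoImplicit false
set_option linter.unusedSectionVars false

namespace Cfsg.Agent.SelfCentNoncyclic

open Subgroup MulAction
open scoped MatrixGroups

variable {F : Type*} [Field F] [Fintype F]

local notation "PG" => Matrix.ProjectiveSpecialLinearGroup (Fin 2) F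

/-- The number theory: `q ± 1` a power of two. -/
theorem prime_or_nine {p f k : ℕ} (hp : p.Prime) (hodd : Odd p) (hf : 1 ≤ f)
    (h : p ^ f + 1 = 2 ^ k ∨ p ^ f = 2 ^ k + 1) : f = 1 ∨ p ^ f = 9 := by
  have hpz : (2 : ℤ) ∣ (p : ℤ) - 1 := by
    obtain ⟨l, rfl⟩ := hodd; exact ⟨l, by push_cast; ring⟩
  rcases Nat.even_or_odd f with ⟨g, rfl⟩ | hfo
  · right
    have hP : Odd (p ^ g) := hodd.pow
    have hsq : p ^ (g + g) = p ^ g * p ^ g := pow_add p g g
    rcases h with h | h
    · exfalso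
      obtain ⟨l, hl⟩ := hP
      rw [hsq, hl] at h
      have h3 : 3 ≤ p ^ g := (show 3 ≤ p by
        have := hp.two_le
        rcases hodd with ⟨m, rfl⟩; omega).trans (Nat.le_self_pow (by omega) p)
      rw [hl] at h3
      rcases k with _ | _ | k
      · simp at h
      · norm_num at h; nlinarith
      · have h4 : 4 ∣ (2 * l + 1) * (2 * l + 1) + 1 := by rw [h]; exact ⟨2 ^ k, by ring⟩
        rw [show (2 * l + 1) * (2 * l + 1) + 1 = 4 * (l * l + l) + 2 by ring] at h4
        omega
    · obtain ⟨l, hl⟩ := hP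
      rw [hsq, hl] at h ⊢
      have hm : (2 * l) * (2 * l + 2) = 2 ^ k := by nlinarith
      obtain ⟨i, -, hi⟩ := (Nat.dvd_prime_pow Nat.prime_two).1 (Dvd.intro _ hm)
      obtain ⟨j, -, hj⟩ := (Nat.dvd_prime_pow Nat.prime_two).1 (Dvd.intro_left _ hm)
      rcases i with _ | _ | i
      · simp at hi
      · norm_num at hi <;> simp [hi]
      · rcases j with _ | _ | j
        · simp at hj
        · simp at hj; have := Nat.two_pow_pos (i + 1 + 1); omega
        · rw [pow_succ, pow_succ] at hi hj; omega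
  · left
    by_contra hf1
    have hgeo : ∀ a : ℤ, Odd a → Odd (∑ i ∈ Finset.range f, a ^ i) := fun a ha => by
      suffices key : ∀ l : ℕ, (Odd (∑ i ∈ Finset.range l, a ^ i) ↔ Odd l) from (key f).2 hfo
      intro l
      induction l with
      | zero => simp
      | succ l ih =>
        rw [Finset.sum_range_succ, Int.odd_add, ih, Nat.odd_add_one]
        simp [Int.not_even_iff_odd.2 ha.pow]
    have hpo : Odd (p : ℤ) := by exact_mod_cast hodd
    obtain ⟨a, ha, hdvd⟩ : ∃ a : ℤ, (a = (p : ℤ) ∨ a = -(p : ℤ)) ∧ a ^ f - 1 ∣ (2 : ℤ) ^ k := by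
      rcases h with h | h
      · refine ⟨-(p : ℤ), Or.inr rfl, ⟨-1, ?_⟩⟩
        rw [hfo.neg_pow]; zify at h; linarith
      · refine ⟨p, Or.inl rfl, ⟨1, ?_⟩⟩
        zify at h; linarith
    have hao : Odd a := by rcases ha with rfl | rfl; exacts [hpo, hpo.neg]
    have hsum : (∑ i ∈ Finset.range f, a ^ i) ∣ (2 : ℤ) ^ k :=
      (Dvd.intro _ (geom_sum_mul a f)).trans hdvd
    have hunit : IsUnit (∑ i ∈ Finset.range f, a ^ i) := by
      obtain ⟨l, hl⟩ := hgeo a hao
      have hco : IsCoprime (∑ i ∈ Finset.range f, a ^ i) ((2 : ℤ) ^ k) :=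
        (IsCoprime.pow_right (⟨1, -l, by rw [hl]; ring⟩))
      exact hco.isUnit_of_dvd hsum
    have hmul := geom_sum_mul a f
    have habs : (a ^ f - 1).natAbs = (a - 1).natAbs := by
      rw [← hmul, Int.natAbs_mul, Int.isUnit_iff_natAbs_eq.1 hunit, one_mul]
    have hbig : p * p * p ≤ p ^ f := by
      rw [← pow_two, ← pow_succ]
      exact Nat.pow_le_pow_right hp.pos (by obtain ⟨l, rfl⟩ := hfo; omega)
    have h3 : 3 ≤ p := by
      have := hp.two_le
      rcases hodd with ⟨m, rfl⟩; omega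
    have h9 : 9 * p ≤ p ^ f := le_trans (by nlinarith) hbig
    rcases ha with rfl | rfl
    · have e1 : ((p : ℤ) ^ f - 1).natAbs = p ^ f - 1 := by
        have : 1 ≤ p ^ f := Nat.one_le_pow _ _ hp.pos
        rw [show ((p : ℤ) ^ f - 1) = ((p ^ f - 1 : ℕ) : ℤ) by push_cast [this]; ring, Int.natAbs_natCast]
      rw [e1] at habs
      omega
    · have e1 : ((-(p : ℤ)) ^ f - 1).natAbs = p ^ f + 1 := by
        rw [hfo.neg_pow, show -((p : ℤ) ^ f) - 1 = -(((p ^ f + 1 : ℕ) : ℤ)) by push_cast; ring,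
          Int.natAbs_neg, Int.natAbs_natCast]
      rw [e1] at habs
      omega

theorem card_cent_invol_cases (h2 : (2 : F) ≠ 0) {x : PG} (hx : orderOf x = 2) :
    (Fintype.card F % 4 = 1 ∧ Nat.card (centralizer ({x} : Set PG)) = Fintype.card F - 1) ∨
      (Fintype.card F % 4 = 3 ∧ Nat.card (centralizer ({x} : Set PG)) = Fintype.card F + 1) := by
  obtain ⟨e1, e3⟩ := Forms.KleinSL2.natCard_circ_one h2
  rw [PSLBinary.natCard_centralizer_invol h2 hx]
  rcases (show Fintype.card F % 4 = 1 ∨ Fintype.card F % 4 = 3 by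
    have : Fintype.card F % 2 = 1 := FiniteField.odd_card_of_char_ne_two fun hc => h2 (by
      haveI := ringChar.of_eq hc
      exact CharTwo.two_eq_zero)
    omega) with h | h
  · exact Or.inl ⟨h, e1 h⟩
  · exact Or.inr ⟨h, e3 h⟩

open Forms.DicksonBasic in
/-- The converse direction. -/
theorem prop_psl (p : ℕ) [hp : Fact p.Prime] [CharP F p] {f : ℕ} (hq : Fintype.card F = p ^ f) (hf : f ≤ 2)
    (h2grp : p ≠ 2 → ∀ x : PG, orderOf x = 2 → IsPGroup 2 (centralizer ({x} : Set PG)))
    (H : Subgroup PG) (hH : ¬ IsCyclic H) : centralizer (H : Set PG) ≤ H := by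
  classical
  haveI : Fact (Nat.Prime 2) := ⟨Nat.prime_two⟩
  intro c hc
  by_contra hcH
  have hcomm : ∀ h ∈ H, Commute h c := fun h hh => mem_centralizer_iff.1 hc h hh
  have hc1 : c ≠ 1 := fun h => hcH (h ▸ one_mem H)
  have hT : TwoPt p PG (OnePoint (AlgebraicClosure F)) := Forms.DicksonAction.twoPt p
  by_cases hcp : orderOf c = p
  · obtain ⟨x, hx⟩ := hT.exists_fixed hc1
    have hle : H ≤ hT.pSub x := fun h hh => (hT.mem_pSub).2 (hT.cent_p hcp hx (hcomm h hh))
    have hcP : c ∈ hT.pSub x := (hT.mem_pSub).2 ⟨hx, by rw [← hcp, pow_orderOf_eq_one]⟩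
    obtain ⟨e, he⟩ := IsPGroup.iff_card.1 (hT.isPGroup_pSub x)
    obtain ⟨d, hd⟩ := IsPGroup.iff_card.1 ((hT.isPGroup_pSub x).to_le hle)
    have hpe : p ^ e ∣ p ^ f * (p ^ (2 * f) - 1) := by
      rw [← he]
      refine (Subgroup.card_subgroup_dvd_card _).trans ?_
      have h1 := Classical.SmallIso.natCard_pslTwo F
      refine (Dvd.intro_left _ h1).trans ?_
      rw [GL2.Counts.natCard_SL, hq, ← pow_mul, mul_comm f 2]
    have hef : e ≤ f := by
      by_contra h
      have h1 : p ^ (f + 1) ∣ p ^ f * (p ^ (2 * f) - 1) := (pow_dvd_pow p (by omega)).trans hpe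
      rw [pow_succ] at h1
      have h2 := (Nat.mul_dvd_mul_iff_left (pow_pos hp.out.pos f)).1 h1
      have hf0 : f ≠ 0 := fun h => by
        rw [h, pow_zero] at hq
        exact Fintype.one_lt_card.ne' hq
      have h3 : p ∣ p ^ (2 * f) := dvd_pow_self p (by omega)
      have h4 := Nat.dvd_sub h3 h2
      rw [Nat.sub_sub_self (Nat.one_le_pow _ _ hp.out.pos)] at h4
      exact hp.out.not_dvd_one h4
    have hde : d < e := by
      have hlt : Nat.card H < Nat.card (hT.pSub x) := by
        refine lt_of_le_of_ne (card_le_of_le hle) fun h => hcH ?_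
        rw [eq_of_le_of_card_ge hle h.ge]; exact hcP
      rw [he, hd] at hlt
      exact (Nat.pow_lt_pow_iff_right hp.out.one_lt).1 hlt
    rcases (show d = 0 ∨ d = 1 by omega) with rfl | rfl
    · exact hH (by
        haveI : Subsingleton H := (Nat.card_eq_one_iff_unique.1 (by rw [hd, pow_zero])).1
        infer_instance)
    · exact hH (isCyclic_of_prime_card (by rw [hd, pow_one]))
  obtain ⟨a, b, hab, hfix⟩ := hT.exists_pair hc1 hcp
  have hnp : ∀ h ∈ H, orderOf h ≠ p := fun h hh ho => by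
    obtain ⟨x, hx⟩ := hT.exists_fixed (g := h) fun e => by rw [e, orderOf_one] at ho; exact hp.out.one_lt.ne ho
    have := (hT.cent_p ho hx (hcomm h hh).symm).2
    rcases (Nat.dvd_prime hp.out).1 (orderOf_dvd_of_pow_eq_one this) with h1 | h1
    · exact hc1 (orderOf_eq_one_iff.1 h1)
    · exact hcp h1
  by_cases hodd : Odd (Nat.card (centralizer ({c} : Set PG)))
  · refine hH (hT.cyc a H (fun h hh => ?_) hnp)
    have hperm : ∀ y, y ∈ fixedBy (OnePoint (AlgebraicClosure F)) c → h • y ∈ fixedBy _ c := fun y hy => by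
      show c • h • y = h • y
      rw [← mul_smul, ← (hcomm h hh).eq, mul_smul, hy]
    have ha : a ∈ fixedBy (OnePoint (AlgebraicClosure F)) c := by rw [hfix]; simp
    have hb : b ∈ fixedBy (OnePoint (AlgebraicClosure F)) c := by rw [hfix]; simp
    have h1 := hperm a ha
    have h2 := hperm b hb
    rw [hfix] at h1 h2
    simp only [Set.mem_insert_iff, Set.mem_singleton_iff] at h1 h2
    rcases h1 with h1 | h1
    · exact h1
    have h2' : h • b = a := h2.resolve_right fun e => hab (smul_left_cancel h (h1.trans e.symm))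
    have hh2 : (h ^ 2) • a = a := by rw [pow_two, mul_smul, h1, h2']
    have ho : Odd (orderOf h) := Odd.of_dvd_nat hodd (Subgroup.orderOf_dvd_natCard _
      (mem_centralizer_singleton_iff.2 (hcomm h hh).eq))
    obtain ⟨l, hl⟩ := ho
    have h3 : h = ((h ^ 2) ^ l)⁻¹ := eq_inv_of_mul_eq_one_right (by
      rw [← pow_mul, ← pow_succ, ← hl, pow_orderOf_eq_one])
    have h4 : (h ^ 2) ∈ stabilizer PG a := hh2
    rw [h3]
    exact inv_mem (pow_mem h4 l)
  obtain ⟨v, hv⟩ := exists_prime_orderOf_dvd_card' (G := centralizer ({c} : Set PG)) 2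
    (even_iff_two_dvd.1 (Nat.not_odd_iff_even.1 hodd))
  rw [← Subgroup.orderOf_coe] at hv
  have hvc : Commute (v : PG) c := mem_centralizer_singleton_iff.1 v.2
  have hp2 : p ≠ 2 := by
    rintro rfl
    obtain ⟨x, hx⟩ := hT.exists_fixed (g := (v : PG)) fun e => by rw [e, orderOf_one] at hv; omega
    rcases (Nat.dvd_prime Nat.prime_two).1 (orderOf_dvd_of_pow_eq_one (hT.cent_p hv hx hvc.symm).2) with h1 | h1
    · exact hc1 (orderOf_eq_one_iff.1 h1)
    · exact hcp h1
  have hh2 : (2 : F) ≠ 0 := by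
    intro h
    have : ((2 : ℕ) : F) = 0 := by exact_mod_cast h
    rw [CharP.cast_eq_zero_iff F p] at this
    exact hp2 ((Nat.prime_dvd_prime_iff_eq hp.out Nat.prime_two).1 this)
  obtain ⟨j, hj⟩ := h2grp hp2 _ hv ⟨c, mem_centralizer_singleton_iff.2 hvc.symm.eq⟩
  have hj' : c ^ 2 ^ j = 1 := congrArg Subtype.val hj
  obtain ⟨i, -, hi⟩ := (Nat.dvd_prime_pow Nat.prime_two).1 (orderOf_dvd_of_pow_eq_one hj')
  rcases i with _ | i
  · exact hc1 (orderOf_eq_one_iff.1 (by rw [hi, pow_zero]))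
  set u := c ^ 2 ^ i with hu
  have huo : orderOf u = 2 := by
    rw [hu, orderOf_pow' _ (by positivity), hi, pow_succ, Nat.gcd_mul_right_left,
      Nat.mul_div_cancel_left 2 (by positivity)]
  have hH2 : IsPGroup 2 H := (h2grp hp2 u huo).to_le fun h hh =>
    mem_centralizer_singleton_iff.2 ((hcomm h hh).pow_right _).eq
  haveI : Nontrivial H := by
    by_contra h
    rw [not_nontrivial_iff_subsingleton] at h
    exact hH inferInstance
  haveI := hH2.center_nontrivial
  obtain ⟨z, hz⟩ := exists_prime_orderOf_dvd_card' (G := center H) 2 (by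
    obtain ⟨n, hn⟩ := IsPGroup.iff_card.1 (hH2.to_subgroup (center H))
    rw [hn]
    refine dvd_pow_self 2 fun h => ?_
    rw [h, pow_zero, Nat.card_eq_one_iff_unique] at hn
    exact not_subsingleton _ hn.1)
  rw [← Subgroup.orderOf_coe, ← Subgroup.orderOf_coe] at hz
  set z' : PG := ((z : H) : PG)
  by_cases huniq : ∃ t ∈ H, orderOf t = 2 ∧ t ≠ z'
  · obtain ⟨t, htH, ht, htz⟩ := huniq
    have hzt : Commute z' t := (congrArg Subtype.val (Subgroup.mem_center_iff.1 z.2 ⟨t, htH⟩)).symm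
    rcases PSLBinary.mem_four hh2 hz ht (Ne.symm htz) hzt (hcomm _ (z : H).2).symm
      (hcomm t htH).symm with h | h | h | h
    · exact hc1 h
    · exact hcH (h ▸ (z : H).2)
    · exact hcH (h ▸ htH)
    · exact hcH (h ▸ mul_mem (z : H).2 htH)
  push Not at huniq
  obtain ⟨a', b', -, hfix'⟩ := hT.exists_pair (g := z') (fun e => by rw [e, orderOf_one] at hz; omega)
    (by rw [hz]; exact fun e => hp2 e.symm)
  refine hH (hT.cyc a' H (fun h hh => ?_) hnp)
  by_cases h1 : h = 1
  · rw [h1, one_smul]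
  obtain ⟨l, hl⟩ := hH2 ⟨h, hh⟩
  have hl' : h ^ 2 ^ l = 1 := congrArg Subtype.val hl
  obtain ⟨m, -, hm⟩ := (Nat.dvd_prime_pow Nat.prime_two).1 (orderOf_dvd_of_pow_eq_one hl')
  rcases m with _ | m
  · exact absurd (orderOf_eq_one_iff.1 (by rw [hm, pow_zero])) h1
  have hpw : h ^ 2 ^ m = z' := huniq _ (pow_mem hh _) (by
    rw [orderOf_pow' _ (by positivity), hm, pow_succ, Nat.gcd_mul_right_left,
      Nat.mul_div_cancel_left 2 (by positivity)])
  have hsub : fixedBy (OnePoint (AlgebraicClosure F)) h ⊆ fixedBy _ z' := fun y (hy : h • y = y) => by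
    show z' • y = y
    rw [← hpw]
    exact Subgroup.pow_mem (MulAction.stabilizer PG y) hy _
  have heq : fixedBy (OnePoint (AlgebraicClosure F)) h = fixedBy _ z' := by
    refine Set.eq_of_subset_of_ncard_le hsub ?_ (hT.finite_fix _ fun e => by rw [e, orderOf_one] at hz; omega)
    rw [hT.ncard_fix h h1, if_neg (hnp h hh), hT.ncard_fix z' (fun e => by rw [e, orderOf_one] at hz; omega),
      if_neg (hnp z' (z : H).2)]
  have : a' ∈ fixedBy (OnePoint (AlgebraicClosure F)) h := by rw [heq, hfix']; simp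
  exact this

end Cfsg.Agent.SelfCentNoncyclic
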