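import Mathlib
import Cfsg.Agent.Lib.CentFour.TwoGroup
import Cfsg.Agent.Lib.Forms.DicksonShapes

/-! 2-groups with a self-centralising four group: shape and odd automorphisms. -/

set_option autoImplicit false
set_option linter.unusedSectionVars false

namespace Cfsg.Agent.SelfCentNoncyclic

open Subgroup

variable {S : Type*} [Group S] [Finite S]

/-- A cyclic subgroup of index two with prescribed behaviour outside. -/
structure Shape (a y z : S) (N : ℕ) : Prop where
  ord : orderOf a = N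
  index : (zpowers a).index = 2
  y_out : y ∉ zpowers a
  y_sq : y * y = 1
  z_ord : orderOf z = 2
  z_mem : z ∈ zpowers a
  z_unique : ∀ x ∈ zpowers a, x * x = 1 → x = 1 ∨ x = z
  out : (∀ x, x ∉ zpowers a → x * x = 1) ∨
    (8 ≤ N ∧ (∀ x, x ∉ zpowers a → x * x = 1 ∨ x * x = z) ∧
      ∀ x, x ∉ zpowers a → x * a ^ 2 * x⁻¹ = (a ^ 2)⁻¹)

theorem unique_invol_zpowers {a : S} {x z : S} (hx : x ∈ zpowers a) (hx2 : x * x = 1) (hx1 : x ≠ 1)
    (hz : z ∈ zpowers a) (hz2 : z * z = 1) (hz1 : z ≠ 1) : x = z := by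
  classical
  haveI := Fintype.ofFinite (zpowers a)
  have h := IsCyclic.card_pow_eq_one_le (α := zpowers a) (n := 2) (by norm_num)
  by_contra hne
  have hsub : ({1, ⟨x, hx⟩, ⟨z, hz⟩} : Finset (zpowers a)) ⊆ Finset.univ.filter fun t => t ^ 2 = 1 := by
    intro t ht
    simp only [Finset.mem_insert, Finset.mem_singleton] at ht
    refine Finset.mem_filter.2 ⟨Finset.mem_univ _, ?_⟩
    rcases ht with rfl | rfl | rfl
    · exact one_pow 2
    · exact Subtype.ext (by simpa [pow_two] using hx2)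
    · exact Subtype.ext (by simpa [pow_two] using hz2)
  have h3 := (Finset.card_le_card hsub).trans h
  rw [Finset.card_eq_three.2 ⟨1, ⟨x, hx⟩, ⟨z, hz⟩, fun e => hx1 (congrArg Subtype.val e).symm,
    fun e => hz1 (congrArg Subtype.val e).symm, fun e => hne (congrArg Subtype.val e), rfl⟩] at h3
  omega

/-- A 2-group with an involution of centraliser order four, and another involution in its centre. -/
theorem exists_shape (hS : IsPGroup 2 S) {e z : S} (he : orderOf e = 2) (hz : orderOf z = 2)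
    (hez : e ≠ z) (hzc : ∀ x : S, x * z = z * x)
    (hC : Nat.card (centralizer ({e} : Set S)) ≤ 4) :
    ∃ (a y : S) (N : ℕ), Shape a y z N ∧ Nat.card S = 2 * N ∧ (N = 2 ∨ 4 ≤ N) := by
  classical
  have hzz : z * z = 1 := by rw [← pow_two, ← hz, pow_orderOf_eq_one]
  have hee : e * e = 1 := by rw [← pow_two, ← he, pow_orderOf_eq_one]
  have hz1 : z ≠ 1 := fun h => by rw [h, orderOf_one] at hz; omega
  have he1 : e ≠ 1 := fun h => by rw [h, orderOf_one] at he; omega
  rcases CentFour.structure_of_small_centralizer hS e hC with h4 | ⟨m, a, y, ha, hcard, hy, hcase⟩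
  · have hez' : e ∉ zpowers z := fun h => hez (unique_invol_zpowers h hee he1 (mem_zpowers z) hzz hz1)
    have hmul := (zpowers z).card_mul_index
    rw [Nat.card_zpowers, hz] at hmul
    have hne1 : (zpowers z).index ≠ 1 := fun h => hez' (by rw [index_eq_one.1 h]; trivial)
    have hne0 : (zpowers z).index ≠ 0 := index_ne_zero_of_finite
    have hi : (zpowers z).index = 2 := by omega
    refine ⟨z, e, 2, ⟨hz, hi, hez', hee, hz, mem_zpowers z, fun x hx hx2 => ?_, Or.inl fun x hx => ?_⟩,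
      by omega, Or.inl rfl⟩
    · by_cases h1 : x = 1
      · exact Or.inl h1
      · exact Or.inr (unique_invol_zpowers hx hx2 h1 (mem_zpowers z) hzz hz1)
    · obtain ⟨i, hi'⟩ : e⁻¹ * x ∈ zpowers z :=
        (mul_mem_iff_of_index_two hi).2 (iff_of_false (fun h => hez' (inv_mem_iff.1 h)) hx)
      simp only at hi'
      have hxe : x = e * z ^ i := by rw [hi', mul_inv_cancel_left]
      have hc : Commute e (z ^ i) := (show Commute e z from hzc e).zpow_right i
      calc x * x = e * (z ^ i * e) * z ^ i := by rw [hxe]; group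
        _ = (e * e) * (z ^ i * z ^ i) := by rw [← hc.eq]; group
        _ = 1 := by
          rw [hee, one_mul, ← (Commute.refl z).mul_zpow, hzz, one_zpow]
  set w := a ^ 2 ^ (m + 1) with hwdef
  have hN : 4 ≤ 2 ^ (m + 2) := by
    calc 4 = 2 ^ 2 := by norm_num
      _ ≤ _ := Nat.pow_le_pow_right (by norm_num) (by omega)
  have hai : (zpowers a).index = 2 := by
    have := (zpowers a).card_mul_index
    rw [Nat.card_zpowers, ha, hcard, pow_succ 2 (m + 2)] at this
    exact Nat.eq_of_mul_eq_mul_left (by positivity) this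
  have how : orderOf w = 2 := by
    rw [hwdef, orderOf_pow' _ (by positivity), ha, show (2 : ℕ) ^ (m + 2) = 2 ^ (m + 1) * 2 from pow_succ 2 (m+1),
      Nat.gcd_mul_right_left, Nat.mul_div_cancel_left 2 (by positivity)]
  have hww : w * w = 1 := by rw [← pow_two, ← how, pow_orderOf_eq_one]
  have hw1 : w ≠ 1 := fun h => by rw [h, orderOf_one] at how; omega
  have hwm : w ∈ zpowers a := pow_mem (mem_zpowers a) _
  obtain ⟨r, hr, hyy⟩ : ∃ r : ℤ, y * a * y⁻¹ = a ^ r ∧
      ((r = -1 ∧ (y * y = 1 ∨ y * y = w)) ∨ (1 ≤ m ∧ r = 2 ^ (m + 1) - 1 ∧ y * y = 1)) := by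
    rcases hcase with ⟨hc, h2⟩ | ⟨hc, h2⟩ | ⟨hm, hc, h2⟩
    · exact ⟨-1, by rw [hc, zpow_neg_one], Or.inl ⟨rfl, Or.inl h2⟩⟩
    · exact ⟨-1, by rw [hc, zpow_neg_one], Or.inl ⟨rfl, Or.inr h2⟩⟩
    · refine ⟨2 ^ (m + 1) - 1, ?_, Or.inr ⟨hm, rfl, h2⟩⟩
      have hcast : ((2 ^ (m + 1) - 1 : ℕ) : ℤ) = 2 ^ (m + 1) - 1 := by
        rw [Nat.cast_sub Nat.one_le_two_pow]; push_cast; ring
      rw [hc, ← hcast, zpow_natCast]
  have hconj : ∀ i : ℤ, y * a ^ i * y⁻¹ = a ^ (r * i) := fun i => by
    rw [← conj_zpow, hr, ← zpow_mul]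
  have hyy' : ∀ i : ℤ, y * y * a ^ (i * r) = a ^ (i * r) * (y * y) := fun i => by
    rcases hyy with ⟨-, h | h⟩ | ⟨-, -, h⟩ <;> rw [h]
    · simp
    · rw [hwdef]; exact ((Commute.refl a).pow_left _).zpow_right _
    · simp
  have hform : ∀ x, x ∉ zpowers a → ∃ i : ℤ, x = y * a ^ i := fun x hx => by
    obtain ⟨i, hi⟩ : y⁻¹ * x ∈ zpowers a :=
      (mul_mem_iff_of_index_two hai).2 (iff_of_false (fun h => hy (inv_mem_iff.1 h)) hx)
    simp only at hi
    exact ⟨i, by rw [hi, mul_inv_cancel_left]⟩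
  have hsq : ∀ i : ℤ, y * a ^ i * (y * a ^ i) = a ^ (r * i) * (y * y) * a ^ i := fun i => by
    rw [← hconj]; group
  have hcomm : ∀ i : ℤ, a ^ (r * i) * (y * y) = (y * y) * a ^ (r * i) := fun i => by
    rw [mul_comm r i, hyy' i]
  have hzw : z = w := by
    have hzA : z ∈ zpowers a := by
      by_contra hzA
      obtain ⟨i, hi⟩ := hform z hzA
      have h1 : z * a * z⁻¹ = a := by rw [← hzc a]; group
      have h2 : z * a * z⁻¹ = a ^ r := by rw [hi, ← hr]; group
      have h3 : a ^ (r - 1) = 1 := by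
        rw [zpow_sub, ← h2, h1, zpow_one, mul_inv_cancel]
      have h4 := orderOf_dvd_iff_zpow_eq_one.2 h3
      rw [ha] at h4
      have h5 : (4 : ℤ) ∣ r - 1 := dvd_trans ⟨2 ^ m, by push_cast; ring⟩ h4
      rcases hyy with ⟨rfl, -⟩ | ⟨hm, rfl, -⟩
      · omega
      · obtain ⟨k, rfl⟩ := Nat.exists_eq_add_of_le hm
        rw [show (2 : ℤ) ^ (1 + k + 1) = 4 * 2 ^ k by ring] at h5
        omega
    exact unique_invol_zpowers hzA hzz hz1 hwm hww hw1
  have huniq : ∀ x ∈ zpowers a, x * x = 1 → x = 1 ∨ x = z := fun x hx hx2 => by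
    by_cases h1 : x = 1
    · exact Or.inl h1
    · exact Or.inr (hzw ▸ unique_invol_zpowers hx hx2 h1 hwm hww hw1)
  have hwz : ∀ i : ℤ, (a ^ (2 ^ (m + 1) : ℤ)) ^ i = 1 ∨ (a ^ (2 ^ (m + 1) : ℤ)) ^ i = z := fun i => by
    have hcast : a ^ (2 ^ (m + 1) : ℤ) = w := by
      rw [hwdef, ← zpow_natCast]; push_cast; rfl
    rw [hcast]
    refine huniq _ (zpow_mem hwm i) ?_
    rw [← (Commute.refl w).mul_zpow, hww, one_zpow]
  have hcard' : Nat.card S = 2 * 2 ^ (m + 2) := by rw [hcard]; ring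
  have hee_out : e * e = 1 ∧ e ∉ zpowers a :=
    ⟨hee, fun h => hez ((huniq e h hee).resolve_left he1)⟩
  rcases hyy with ⟨rfl, hy2 | hy2⟩ | ⟨hm, rfl, hy2⟩
  · refine ⟨a, y, _, ⟨ha, hai, hy, hy2, hz, hzw ▸ hwm, huniq, Or.inl fun x hx => ?_⟩, hcard', Or.inr hN⟩
    obtain ⟨i, rfl⟩ := hform x hx
    rw [hsq, hy2, mul_one, ← zpow_add, show -1 * i + i = 0 by ring, zpow_zero]
  · exfalso
    obtain ⟨i, hi⟩ := hform e hee_out.2
    rw [hi, hsq, hcomm, mul_assoc, ← zpow_add, show -1 * i + i = 0 by ring, zpow_zero, mul_one, hy2] at hee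
    exact hw1 hee
  · refine ⟨a, y, _, ⟨ha, hai, hy, hy2, hz, hzw ▸ hwm, huniq, Or.inr ⟨?_, fun x hx => ?_, fun x hx => ?_⟩⟩,
      hcard', Or.inr hN⟩
    · calc 8 = 2 ^ 3 := by norm_num
        _ ≤ _ := Nat.pow_le_pow_right (by norm_num) (by omega)
    · obtain ⟨i, rfl⟩ := hform x hx
      rw [hsq, hy2, mul_one, ← zpow_add, show (2 ^ (m + 1) - 1) * i + i = (2 ^ (m + 1) : ℤ) * i by ring,
        zpow_mul]
      exact hwz i
    · obtain ⟨i, rfl⟩ := hform x hx
      calc y * a ^ i * a ^ 2 * (y * a ^ i)⁻¹ = y * (a ^ i * a ^ 2 * (a ^ i)⁻¹) * y⁻¹ := by group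
        _ = y * a ^ ((2 : ℕ) : ℤ) * y⁻¹ := by rw [zpow_natCast]; group
        _ = (a ^ 2)⁻¹ := by
          rw [hconj, ← zpow_natCast a 2, ← zpow_neg,
            show ((2 : ℤ) ^ (m + 1) - 1) * ((2 : ℕ) : ℤ) = 2 ^ (m + 2) + -((2 : ℕ) : ℤ) by push_cast; ring,
            zpow_add, show ((2 : ℤ) ^ (m + 2)) = ((2 ^ (m + 2) : ℕ) : ℤ) by push_cast; rfl,
            zpow_natCast, ← ha, pow_orderOf_eq_one, one_mul]

theorem eq_one_of_pow_odd {c : S} {n : ℕ} (hS : IsPGroup 2 S) (hn : Odd n) (h : c ^ n = 1) : c = 1 := by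
  obtain ⟨k, hk⟩ := hS c
  rw [← orderOf_eq_one_iff]
  exact Nat.dvd_one.1 ((Nat.Coprime.pow_left k (Nat.coprime_two_left.2 hn)).gcd_eq_one ▸
    Nat.dvd_gcd (orderOf_dvd_of_pow_eq_one hk) (orderOf_dvd_of_pow_eq_one h))

/-- An automorphism of odd order fixing `z` of a subgroup containing `e` fixes `e`. -/
theorem fixes_of_odd_order {a y z : S} {N : ℕ} (hS : IsPGroup 2 S) (D : Shape a y z N) (W : Subgroup S)
    {e : S} (heW : e ∈ W) (he2 : e * e = 1) (he1 : e ≠ 1) (hez : e ≠ z) (hzW : z ∈ W)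
    (φ : W ≃* W) (n : ℕ) (hn : Odd n) (hφ : ∀ w : W, (φ : W → W)^[n] w = w) (hφz : (φ ⟨z, hzW⟩ : S) = z) :
    φ ⟨e, heW⟩ = ⟨e, heW⟩ := by
  classical
  have heA : e ∉ zpowers a := fun h => hez ((D.z_unique e h he2).resolve_left he1)
  set B : Subgroup W := (zpowers a).subgroupOf W with hB
  haveI hBc : IsCyclic B := by
    let f : B →* zpowers a := (W.subtype.comp B.subtype).codRestrict (zpowers a) fun b => b.2
    exact isCyclic_of_injective f fun p q h =>
      Subtype.ext (Subtype.ext (congrArg Subtype.val h :))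
  obtain ⟨b, hb⟩ := IsCyclic.exists_generator (α := B)
  have hzB : (⟨z, hzW⟩ : W) ∈ B := D.z_mem
  obtain ⟨u, hu⟩ : ∃ u : ℤ, (φ (b : W) : W) = (b : W) ^ u ∨ orderOf (b : W) ≤ 2 := by
    by_cases hbA : φ (b : W) ∈ B
    · obtain ⟨u, hu⟩ := hb ⟨_, hbA⟩
      exact ⟨u, Or.inl (congrArg Subtype.val hu :).symm⟩
    · refine ⟨0, Or.inr ?_⟩
      set x : S := ((φ (b : W) : W) : S) with hx
      have hxA : x ∉ zpowers a := hbA
      have hord : orderOf x = orderOf (b : W) := by
        rw [hx, Subgroup.orderOf_coe, MulEquiv.orderOf_eq]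
      have hsq1 : x * x = 1 → orderOf (b : W) ≤ 2 := fun h => by
        rw [← hord]; exact Nat.le_of_dvd (by norm_num) (orderOf_dvd_of_pow_eq_one (by rw [pow_two, h]))
      rcases D.out with hd | ⟨h8, hd, hi⟩
      · exact hsq1 (hd x hxA)
      · rcases hd x hxA with h | h
        · exact hsq1 h
        · exfalso
          by_cases haW : ∃ k : ℤ, (b : W).1 = a ^ k ∧ Odd k
          · obtain ⟨k, hk, hko⟩ := haW
            have h4 : (b : W).1 ^ 4 = 1 := by
              have : x ^ 4 = 1 := by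
                calc x ^ 4 = (x * x) * (x * x) := by simp [pow_succ, mul_assoc]
                  _ = z * z := by rw [h]
                  _ = 1 := by rw [← pow_two, ← D.z_ord, pow_orderOf_eq_one]
              have h' := orderOf_dvd_of_pow_eq_one this
              rw [hord, ← Subgroup.orderOf_coe] at h'
              exact orderOf_dvd_iff_pow_eq_one.1 h'
            rw [hk, ← zpow_natCast, ← zpow_mul, ← orderOf_dvd_iff_zpow_eq_one, D.ord] at h4
            obtain ⟨j, hj⟩ := hS a
            obtain ⟨i, hi', hji⟩ := (Nat.dvd_prime_pow Nat.prime_two).1 (D.ord ▸ orderOf_dvd_of_pow_eq_one hj)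
            have hi3 : 3 ≤ i := by
              by_contra h3
              have : 2 ^ i ≤ 2 ^ 2 := Nat.pow_le_pow_right (by norm_num) (by omega)
              omega
            have h8' : (8 : ℤ) ∣ k * ((4 : ℕ) : ℤ) := dvd_trans
              (by rw [hji, ← Nat.sub_add_cancel hi3, pow_add]; exact ⟨2 ^ (i - 3), by push_cast; ring⟩) h4
            obtain ⟨l, rfl⟩ := hko
            omega
          · push Not at haW
            obtain ⟨l, hl⟩ : (b : W).1 ∈ zpowers (a ^ 2) := by
              obtain ⟨k, hk : a ^ k = (b : W).1⟩ := (b.2 : (b : W).1 ∈ zpowers a)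
              obtain ⟨l, hl⟩ := Int.not_odd_iff_even.1 (haW k hk.symm)
              refine ⟨l, ?_⟩
              show (a ^ 2) ^ l = _
              rw [← hk, hl, ← zpow_natCast, ← zpow_mul]; congr 1; push_cast; ring
            simp only at hl
            have hxW : x ∈ W := (φ (b : W)).2
            have hec : e⁻¹ * x ∈ zpowers a :=
              (mul_mem_iff_of_index_two D.index).2 (iff_of_false (fun h => heA (inv_mem_iff.1 h)) hxA)
            obtain ⟨k, hk⟩ := hb ⟨⟨e⁻¹ * x, mul_mem (inv_mem heW) hxW⟩, hec⟩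
            have hk' : (b : W).1 ^ k = e⁻¹ * x := by
              have := congrArg (fun t : B => (t : W).1) hk
              simpa using this
            have hinv : e * (b : W).1 ^ k * e⁻¹ = ((b : W).1 ^ k)⁻¹ := by
              rw [← hl, ← zpow_mul, ← conj_zpow, hi e heA, inv_zpow]
            have hxx : x * x = 1 := by
              have hx' : x = e * (b : W).1 ^ k := by rw [hk', mul_inv_cancel_left]
              calc x * x = (e * (b : W).1 ^ k * e⁻¹) * (e * e) * (b : W).1 ^ k := by rw [hx']; group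
                _ = 1 := by rw [hinv, he2, mul_one, inv_mul_cancel]
            rw [hxx] at h
            have hz := D.z_ord
            rw [← h, orderOf_one] at hz
            omega
  have hfixB : φ (b : W) = (b : W) := by
    by_cases h2 : orderOf (b : W) ≤ 2
    · have hbb : (b : W) ^ 2 = 1 := by
        rcases (show orderOf (b : W) = 1 ∨ orderOf (b : W) = 2 by
          have := orderOf_pos (b : W); omega) with h | h
        · rw [orderOf_eq_one_iff.1 h, one_pow]
        · rw [← h, pow_orderOf_eq_one]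
      rcases D.z_unique _ (b.2 : (b : W).1 ∈ zpowers a)
        (by rw [pow_two] at hbb; exact congrArg Subtype.val hbb) with h | h
      · rw [show (b : W) = 1 from Subtype.ext h, map_one]
      · rw [show (b : W) = ⟨z, hzW⟩ from Subtype.ext h]
        exact Subtype.ext hφz
    · have hu' := hu.resolve_right h2
      have hit : ∀ k : ℕ, (φ : W → W)^[k] (b : W) = (b : W) ^ (u ^ k) := fun k => by
        induction k with
        | zero => simp
        | succ k ih => rw [Function.iterate_succ_apply', ih, map_zpow, hu', ← zpow_mul, ← pow_succ']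
      have h1 := hit n
      rw [hφ] at h1
      have hdvd : ((orderOf (b : W) : ℕ) : ℤ) ∣ u ^ n - 1 := by
        rw [orderOf_dvd_iff_zpow_eq_one, zpow_sub, ← h1, zpow_one, mul_inv_cancel]
      obtain ⟨j, hj⟩ := (hS.to_subgroup W) (b : W)
      obtain ⟨i, -, hi⟩ := (Nat.dvd_prime_pow Nat.prime_two).1 (orderOf_dvd_of_pow_eq_one hj)
      rw [hu', ← mul_inv_eq_one, ← zpow_neg_one ((b : W)), ← zpow_add, ← orderOf_dvd_iff_zpow_eq_one]
      rw [hi] at hdvd ⊢
      push_cast at hdvd ⊢
      have hi1 : 1 ≤ i := by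
        by_contra h0
        rw [show i = 0 by omega, pow_zero] at hi
        omega
      have hu_odd : Odd u := by
        have h2u : (2 : ℤ) ∣ u ^ n - 1 := (dvd_pow_self 2 (by omega)).trans hdvd
        rcases Int.even_or_odd u with he | ho
        · exfalso
          have : (2 : ℤ) ∣ u ^ n := (even_iff_two_dvd.1 he).trans (dvd_pow_self u (by
            intro h0; rw [h0] at hn; exact (Nat.not_odd_iff_even.2 Even.zero) hn))
          omega
        · exact ho
      rw [← geom_sum_mul] at hdvd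
      have hg : Odd (∑ k ∈ Finset.range n, u ^ k) := by
        suffices key : ∀ l : ℕ, (Odd (∑ k ∈ Finset.range l, u ^ k) ↔ Odd l) from (key n).2 hn
        intro l
        induction l with
        | zero => simp
        | succ l ih =>
          rw [Finset.sum_range_succ, Int.odd_add, ih, Nat.odd_add_one]
          simp [Int.not_even_iff_odd.2 hu_odd.pow]
      have hco : IsCoprime ((2 : ℤ) ^ i) (∑ k ∈ Finset.range n, u ^ k) := by
        refine IsCoprime.pow_left ?_
        obtain ⟨l, hl⟩ := hg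
        exact ⟨-l, 1, by rw [hl]; ring⟩
      exact hco.dvd_of_dvd_mul_left hdvd
  have hBfix : ∀ w : W, w ∈ B → φ w = w := fun w hw => by
    obtain ⟨k, hk⟩ := hb ⟨w, hw⟩
    have hk' : (b : W) ^ k = w := congrArg Subtype.val hk
    rw [← hk', map_zpow, hfixB]
  set ew : W := ⟨e, heW⟩
  have hxA : φ ew ∉ B := fun h => heA (by
    have := hBfix _ h
    rw [φ.injective this] at h
    exact h)
  have hc : ew⁻¹ * φ ew ∈ B := by
    show ((ew⁻¹ * φ ew : W) : S) ∈ zpowers a
    exact (mul_mem_iff_of_index_two D.index).2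
      (iff_of_false (fun h => heA (inv_mem_iff.1 h)) (fun h => hxA h))
  set c := ew⁻¹ * φ ew with hcdef
  have hit : ∀ k : ℕ, (φ : W → W)^[k] ew = ew * c ^ k := fun k => by
    induction k with
    | zero => simp
    | succ k ih =>
      rw [Function.iterate_succ_apply', ih, map_mul, map_pow, hBfix c hc,
        show φ ew = ew * c by rw [hcdef, mul_inv_cancel_left], pow_succ', mul_assoc]
  have h1 := hit n
  rw [hφ, left_eq_mul] at h1
  have hc1 : c = 1 := eq_one_of_pow_odd (hS.to_subgroup W) hn h1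
  exact (eq_of_inv_mul_eq_one (hcdef ▸ hc1)).symm

end Cfsg.Agent.SelfCentNoncyclic
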