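import Mathlib
import Cfsg.Agent.Lib.SelfCentNoncyclic.Shape
import Cfsg.Agent.Lib.Involutions.BaerSuzuki
import Cfsg.Agent.S0204
import Cfsg.Agent.S0508

/-! Simple groups in which non-cyclic subgroups contain their centralisers. -/

set_option autoImplicit false
set_option linter.unusedSectionVars false

namespace Cfsg.Agent.SelfCentNoncyclic

open Subgroup

/-- Every non-cyclic subgroup contains its centraliser. -/
def Prop' (G : Type*) [Group G] : Prop :=
  ∀ H : Subgroup G, ¬ IsCyclic H → centralizer (H : Set G) ≤ H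

variable {G : Type*} [Group G] [Finite G]

theorem mem_cent {g z : G} : g ∈ centralizer ({z} : Set G) ↔ g * z = z * g :=
  mem_centralizer_singleton_iff

/-- An involution in a centraliser of an involution inverts nothing of odd order there. -/
theorem no_inverted (hX : Prop' G) {z s h : G} (hz : orderOf z = 2) (hs : orderOf s = 2)
    (hsz : s * z = z * s) (hhz : h * z = z * h) (hh : Odd (orderOf h)) (hinv : s * h * s⁻¹ = h⁻¹) :
    h = 1 := by
  by_contra h1
  have hsh : s * h ≠ h * s := fun e => by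
    rw [e, mul_inv_cancel_right] at hinv
    have : orderOf h ∣ 2 := orderOf_dvd_of_pow_eq_one (by
      rw [pow_two]; nth_rw 2 [hinv]; exact mul_inv_cancel h)
    rcases (Nat.dvd_prime Nat.prime_two).1 this with e | e
    · exact h1 (orderOf_eq_one_iff.1 e)
    · rw [e] at hh; exact absurd hh (by decide)
  set H := zpowers h ⊔ zpowers s
  have hnc : ¬ IsCyclic H := fun hc => by
    letI := hc.commGroup
    exact hsh (congrArg Subtype.val (mul_comm (⟨s, le_sup_right (a := zpowers h) (mem_zpowers s)⟩ : H)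
      ⟨h, le_sup_left (b := zpowers s) (mem_zpowers h)⟩))
  have hzH : z ∈ H := hX H hnc (by
    refine mem_centralizer_iff.2 fun g hg => ?_
    refine (show H ≤ centralizer ({z} : Set G) from sup_le ?_ ?_) hg |> mem_cent.1
    · exact zpowers_le.2 (mem_cent.2 hhz)
    · exact zpowers_le.2 (mem_cent.2 hsz))
  have hsN : zpowers s ≤ normalizer (zpowers h : Set G) := by
    refine zpowers_le.2 (Subgroup.mem_normalizer_iff_conj_image_eq.2 ?_ |> id)
    rw [← MulEquiv.coe_toMonoidHom, ← coe_map, MonoidHom.map_zpowers]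
    simp [hinv, zpowers_inv]
  obtain ⟨u, ⟨i, rfl⟩, v, ⟨j, rfl⟩, huv⟩ : ∃ u ∈ zpowers h, ∃ v ∈ zpowers s, u * v = z := by
    have : z ∈ ((zpowers h ⊔ zpowers s : Subgroup G) : Set G) := hzH
    rw [Subgroup.coe_mul_of_right_le_normalizer_left _ _ hsN] at this
    obtain ⟨u, hu, v, hv, e⟩ := this
    exact ⟨u, hu, v, hv, e⟩
  simp only at huv
  rcases Int.even_or_odd j with ⟨l, rfl⟩ | ⟨l, rfl⟩
  · rw [← two_mul, zpow_mul, show s ^ (2 : ℤ) = 1 by
      rw [show (2 : ℤ) = ((2 : ℕ) : ℤ) from rfl, zpow_natCast, ← hs, pow_orderOf_eq_one], one_zpow,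
      mul_one] at huv
    have hd : orderOf z ∣ orderOf h := by
      rw [← huv]
      exact orderOf_dvd_iff_pow_eq_one.2 (by
        rw [← zpow_natCast, ← zpow_mul, mul_comm, zpow_mul, zpow_natCast, pow_orderOf_eq_one, one_zpow])
    rw [hz] at hd
    exact Nat.not_even_iff_odd.2 hh (even_iff_two_dvd.2 hd)
  · rw [zpow_add, zpow_mul, show s ^ (2 : ℤ) = 1 by
      rw [show (2 : ℤ) = ((2 : ℕ) : ℤ) from rfl, zpow_natCast, ← hs, pow_orderOf_eq_one], one_zpow,
      one_mul, zpow_one] at huv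
    have hs' : s = (h ^ i)⁻¹ * z := by rw [← huv, inv_mul_cancel_left]
    apply hsh
    have hc : Commute h ((h ^ i)⁻¹ * z) :=
      ((Commute.refl h).zpow_right i).inv_right.mul_right hhz
    rw [← hs'] at hc
    exact hc.eq.symm

/-- The situation of the main argument. -/
structure Setup (G : Type*) [Group G] [Finite G] where
  S : Sylow 2 G
  z : G
  e : G
  hz : orderOf z = 2
  he : orderOf e = 2
  hez : e ≠ z
  hzS : z ∈ (S : Subgroup G)
  heS : e ∈ (S : Subgroup G)
  hzc : ∀ s ∈ (S : Subgroup G), s * z = z * s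
  small : ∀ g : G, g * z = z * g → g * e = e * g → g = 1 ∨ g = z ∨ g = e ∨ g = z * e

theorem sq_one {x : G} (hx : orderOf x = 2) : x * x = 1 := by
  rw [← pow_two, ← hx, pow_orderOf_eq_one]

theorem exists_setup [IsSimpleGroup G] (hG : ¬ IsCyclic G) (hX : Prop' G) : Nonempty (Setup G) := by
  haveI : Fact (Nat.Prime 2) := ⟨Nat.prime_two⟩
  obtain ⟨E, hE⟩ := S0204.result hG
  obtain ⟨S, hS⟩ := (IsPGroup.of_card (n := 2) (show Nat.card E = 2 ^ 2 by
    rw [hE.card_four]; norm_num)).exists_le_sylow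
  haveI : Nontrivial (S : Subgroup G) := by
    refine (nontrivial_iff_ne_bot _).2 fun h => ?_
    have h4 := hE.card_four
    rw [show E = ⊥ from le_bot_iff.1 (hS.trans_eq h), card_bot] at h4
    omega
  haveI := S.2.center_nontrivial
  obtain ⟨z, hz⟩ := exists_prime_orderOf_dvd_card' (G := center (S : Subgroup G)) 2 (by
    obtain ⟨n, hn⟩ := IsPGroup.iff_card.1 (S.2.to_subgroup (center (S : Subgroup G)))
    rw [hn]
    refine dvd_pow_self 2 fun h => ?_
    rw [h, pow_zero, Nat.card_eq_one_iff_unique] at hn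
    exact not_subsingleton _ hn.1)
  set z' : G := ((z : (S : Subgroup G)) : G)
  have hz' : orderOf z' = 2 := by rw [Subgroup.orderOf_coe, Subgroup.orderOf_coe, hz]
  have hzS : z' ∈ (S : Subgroup G) := (z : (S : Subgroup G)).2
  have hzc : ∀ s ∈ (S : Subgroup G), s * z' = z' * s := fun s hs =>
    congrArg Subtype.val (Subgroup.mem_center_iff.1 z.2 ⟨s, hs⟩)
  have hEnc : ¬ IsCyclic E := IsKleinFour.not_isCyclic
  have hCE := hX E hEnc
  have hzE : z' ∈ E := hCE (mem_centralizer_iff.2 fun g hg => hzc g (hS hg))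
  have hEsq : ∀ g ∈ E, g * g = 1 := fun g hg =>
    congrArg Subtype.val (IsKleinFour.mul_self (⟨g, hg⟩ : E))
  obtain ⟨e, heE, he1, hez⟩ : ∃ e ∈ E, e ≠ 1 ∧ e ≠ z' := by
    classical
    haveI := Fintype.ofFinite E
    obtain ⟨e, he⟩ := Finset.exists_mem_notMem_of_card_lt_card
      (s := ({1, ⟨z', hzE⟩} : Finset E)) (t := Finset.univ) (by
        refine lt_of_le_of_lt Finset.card_le_two ?_
        rw [Finset.card_univ, ← Nat.card_eq_fintype_card, hE.card_four]
        norm_num)
    simp only [Finset.mem_insert, Finset.mem_singleton, not_or] at he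
    exact ⟨e, e.2, fun h => he.2.1 (Subtype.ext h), fun h => he.2.2 (Subtype.ext h)⟩
  have hoe : orderOf e = 2 := orderOf_eq_prime (by rw [pow_two, hEsq e heE]) he1
  refine ⟨⟨S, z', e, hz', hoe, hez, hzS, hS heE, hzc, fun g hgz hge => ?_⟩⟩
  have hgen : ∀ x ∈ E, x = 1 ∨ x = z' ∨ x = e ∨ x = z' * e := fun x hx => by
    classical
    by_contra hno
    push Not at hno
    obtain ⟨hx1, hx2, hx3, hx4⟩ := hno
    haveI := Fintype.ofFinite E
    have hz1 : z' ≠ 1 := fun h => by rw [h, orderOf_one] at hz'; omega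
    have hze : z' * e ≠ 1 := fun h => hez (by
      rw [← mul_one e, ← hEsq e heE, ← mul_assoc] at h ⊢
      exact mul_left_cancel (a := z') (by rw [hEsq z' hzE]; simpa [mul_assoc, hEsq e heE] using h))
    have hsub : ({1, ⟨z', hzE⟩, ⟨e, heE⟩, ⟨z' * e, mul_mem hzE heE⟩, ⟨x, hx⟩} : Finset E) ⊆ Finset.univ :=
      Finset.subset_univ _
    have := Finset.card_le_card hsub
    rw [Finset.card_univ, ← Nat.card_eq_fintype_card, hE.card_four] at this
    rw [Finset.card_insert_of_notMem (by simp [Subtype.ext_iff, Ne.symm hz1, Ne.symm he1, Ne.symm hze, Ne.symm hx1]),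
      Finset.card_insert_of_notMem (by simp [Subtype.ext_iff, Ne.symm hez, he1, Ne.symm hx2]),
      Finset.card_insert_of_notMem (by simp [Subtype.ext_iff, hz1, Ne.symm hx3]),
      Finset.card_insert_of_notMem (by simp [Subtype.ext_iff, Ne.symm hx4]),
      Finset.card_singleton] at this
    omega
  refine hgen g (hCE (mem_centralizer_iff.2 fun x hx => ?_))
  rcases hgen x hx with rfl | rfl | rfl | rfl
  · simp
  · exact hgz.symm
  · exact hge.symm
  · exact ((show Commute g z' from hgz).mul_right hge).eq.symm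

namespace Setup

variable (D : Setup G)

theorem exists_shape : ∃ (a y : (D.S : Subgroup G)) (N : ℕ),
    Shape a y ⟨D.z, D.hzS⟩ N ∧ Nat.card (D.S : Subgroup G) = 2 * N ∧ (N = 2 ∨ 4 ≤ N) := by
  classical
  refine SelfCentNoncyclic.exists_shape D.S.2 (e := ⟨D.e, D.heS⟩) (z := ⟨D.z, D.hzS⟩)
    (by rw [Subgroup.orderOf_mk, D.he]) (by rw [Subgroup.orderOf_mk, D.hz])
    (fun h => D.hez (congrArg Subtype.val h)) (fun x => Subtype.ext (D.hzc _ x.2)) ?_
  haveI := Fintype.ofFinite G
  refine le_trans (Nat.card_le_card_of_injective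
    (fun c => (⟨((c : (D.S : Subgroup G)) : G), ?_⟩ :
      ({1, D.z, D.e, D.z * D.e} : Finset G))) fun c d h => ?_) ?_
  · have hc := congrArg Subtype.val (Subgroup.mem_centralizer_singleton_iff.1 c.2)
    simpa only [Finset.mem_insert, Finset.mem_singleton] using D.small _ (D.hzc _ (c : (D.S : Subgroup G)).2) hc
  · exact Subtype.ext (Subtype.ext (congrArg Subtype.val h :))
  · rw [Nat.card_eq_fintype_card, Fintype.card_coe]
    exact Finset.card_le_four

/-- The centraliser of `z` is the Sylow 2-subgroup. -/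
theorem cent_eq (hX : Prop' G) : centralizer ({D.z} : Set G) = (D.S : Subgroup G) := by
  classical
  haveI : Fact (Nat.Prime 2) := ⟨Nat.prime_two⟩
  set C := centralizer ({D.z} : Set G) with hCdef
  have hSC : (D.S : Subgroup G) ≤ C := fun s hs => mem_cent.2 (D.hzc s hs)
  suffices hodd : ∀ y ∈ C, Odd (orderOf y) → y = 1 by
    refine (le_antisymm hSC (le_of_eq (D.S.is_maximal' ?_ hSC))).symm
    intro g
    obtain ⟨k, m, hm, hkm⟩ := Nat.exists_eq_two_pow_mul_odd (orderOf_pos (g : G)).ne'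
    refine ⟨k, Subtype.ext ?_⟩
    push_cast
    refine hodd _ (pow_mem g.2 _) ?_
    rw [orderOf_pow' _ (by positivity), hkm, Nat.gcd_mul_right_left,
      Nat.mul_div_cancel_left m (by positivity)]
    exact hm
  set W₀ : Subgroup C := Cfsg.pCore 2 C
  haveI hW₀n : W₀.Normal := inferInstance
  have hW₀2 : IsPGroup 2 W₀ := Cores.pCore_isPGroup 2
  have hmem : ∀ s : C, orderOf (s : G) = 2 → s ∈ W₀ := fun s hs => by
    by_contra hsW
    obtain ⟨h, h1, hh, hinv⟩ := Involutions.BaerSuzuki.exists_inverted_odd s (by rw [← Subgroup.orderOf_coe, hs])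
      fun N hN hN2 hsN => hsW ((le_sSup ⟨hN, hN2⟩ : N ≤ W₀) hsN)
    refine h1 (Subtype.ext (no_inverted hX D.hz hs (mem_cent.1 s.2) (mem_cent.1 h.2)
      (by rw [Subgroup.orderOf_coe]; exact hh) (congrArg Subtype.val hinv)))
  intro y hy hyodd
  set W : Subgroup G := W₀.map C.subtype with hW
  have hWS : W ≤ (D.S : Subgroup G) := by
    have h1 : IsPGroup 2 (W₀ ⊔ (D.S.subtype hSC : Subgroup C) : Subgroup C) :=
      hW₀2.to_sup_of_normal_left (D.S.subtype hSC).2
    rw [hW, map_le_iff_le_comap]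
    exact le_sup_left.trans ((D.S.subtype hSC).is_maximal' h1 le_sup_right).le
  have heW : D.e ∈ W := ⟨⟨D.e, hSC D.heS⟩, hmem _ D.he, rfl⟩
  have hzW : D.z ∈ W := ⟨⟨D.z, hSC D.hzS⟩, hmem _ D.hz, rfl⟩
  obtain ⟨a, t, N, hsh, -, -⟩ := D.exists_shape
  set W' : Subgroup (D.S : Subgroup G) := W.subgroupOf (D.S : Subgroup G)
  have hconjW : ∀ c ∈ C, ∀ w ∈ W, c * w * c⁻¹ ∈ W := by
    rintro c hc _ ⟨w, hw, rfl⟩
    exact ⟨⟨c, hc⟩ * w * ⟨c, hc⟩⁻¹, hW₀n.conj_mem w hw ⟨c, hc⟩, by simp⟩
  let φ : W' ≃* W' :=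
    { toFun := fun w => ⟨⟨y * w.1.1 * y⁻¹, hWS (hconjW y hy _ w.2)⟩, hconjW y hy _ w.2⟩
      invFun := fun w => ⟨⟨y⁻¹ * w.1.1 * y⁻¹⁻¹, hWS (hconjW _ (inv_mem hy) _ w.2)⟩, hconjW _ (inv_mem hy) _ w.2⟩
      left_inv := fun w => by ext; simp [mul_assoc]
      right_inv := fun w => by ext; simp [mul_assoc]
      map_mul' := fun u v => by ext; simp [mul_assoc] }
  have hit : ∀ (k : ℕ) (w : W'), (((φ : W' → W')^[k] w : W') : (D.S : Subgroup G)).1 =
      y ^ k * w.1.1 * (y ^ k)⁻¹ := fun k => by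
    induction k with
    | zero => simp
    | succ k ih =>
      intro w
      rw [Function.iterate_succ_apply']
      show y * (((φ : W' → W')^[k] w : W') : (D.S : Subgroup G)).1 * y⁻¹ = _
      rw [ih, pow_succ']; group
  have hfix := fixes_of_odd_order D.S.2 hsh W' (e := ⟨D.e, D.heS⟩) heW (Subtype.ext (sq_one D.he))
    (fun h => by have := D.he; rw [show D.e = 1 from congrArg Subtype.val h, orderOf_one] at this; omega)
    (fun h => D.hez (congrArg Subtype.val h)) hzW φ (orderOf y) hyodd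
    (fun w => Subtype.ext (Subtype.ext (by rw [hit, pow_orderOf_eq_one]; simp)))
    (Subtype.ext (by show y * D.z * y⁻¹ = D.z; rw [mem_cent.1 hy, mul_inv_cancel_right]))
  have hye : y * D.e = D.e * y := mul_inv_eq_iff_eq_mul.1 (congrArg (fun w : W' => w.1.1) hfix :)
  have hsm := D.small y (mem_cent.1 hy) hye
  by_contra hy1
  have h2 : orderOf y ∣ 2 := by
    refine orderOf_dvd_of_pow_eq_one ?_
    rcases hsm with h | h | h | h
    · exact absurd h hy1
    · rw [h, ← D.hz, pow_orderOf_eq_one]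
    · rw [h, ← D.he, pow_orderOf_eq_one]
    · have hc : Commute D.z D.e := (D.hzc _ D.heS).symm
      rw [h, hc.mul_pow, ← D.hz, pow_orderOf_eq_one, D.hz, ← D.he, pow_orderOf_eq_one, one_mul]
  rcases (Nat.dvd_prime Nat.prime_two).1 h2 with h | h
  · exact hy1 (orderOf_eq_one_iff.1 h)
  · rw [h] at hyodd; exact absurd hyodd (by decide)

/-- The Sylow 2-subgroup is dihedral. -/
theorem out_invol [IsSimpleGroup G] (hX : Prop' G) {a y : (D.S : Subgroup G)} {N : ℕ}
    (hsh : Shape a y ⟨D.z, D.hzS⟩ N) (hcard : Nat.card (D.S : Subgroup G) = 2 * N) :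
    ∀ x, x ∉ zpowers a → x * x = 1 := by
  classical
  haveI : Fact (Nat.Prime 2) := ⟨Nat.prime_two⟩
  rcases hsh.out with h | ⟨h8, hsq, hinv⟩
  · exact h
  by_contra hcon
  push Not at hcon
  obtain ⟨x0, hx0A, hx0ne⟩ := hcon
  have hx0sq := (hsq x0 hx0A).resolve_left hx0ne
  obtain ⟨k, rfl⟩ : ∃ k, N = 2 ^ (k + 3) := by
    obtain ⟨n, hn⟩ := IsPGroup.iff_card.1 D.S.2
    rw [hcard] at hn
    obtain ⟨k, rfl⟩ : ∃ k, n = k + 4 := ⟨n - 4, by
      rcases n with _ | _ | _ | _ | n <;> simp [pow_succ] at hn <;> omega⟩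
    exact ⟨k, by rw [pow_succ] at hn; omega⟩
  set A2 := zpowers (a ^ 2)
  have hA2le : A2 ≤ zpowers a := zpowers_le.2 (pow_mem (mem_zpowers a) _)
  have hyy : y * y = 1 := hsh.y_sq
  have hy_inv : ∀ w ∈ A2, y * w * y⁻¹ = w⁻¹ := by
    rintro _ ⟨i, rfl⟩
    simp only
    rw [← conj_zpow, hinv y hsh.y_out, inv_zpow]
  have hswap : ∀ w ∈ A2, w * y = y * w⁻¹ := fun w hw => by
    have := hy_inv w⁻¹ (inv_mem hw)
    rw [inv_inv] at this
    calc w * y = y * w⁻¹ * y⁻¹ * y := by rw [this]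
      _ = y * w⁻¹ := by group
  let M : Subgroup (D.S : Subgroup G) :=
    { carrier := {x | x ∈ A2 ∨ y * x ∈ A2}
      one_mem' := Or.inl (one_mem _)
      mul_mem' := by
        rintro u v (hu | hu) (hv | hv)
        · exact Or.inl (mul_mem hu hv)
        · refine Or.inr ?_
          have : y * (u * v) = u⁻¹ * (y * v) := by
            rw [← mul_assoc, ← mul_assoc, show u⁻¹ * y = y * u by rw [hswap _ (inv_mem hu), inv_inv]]
          rw [this]; exact mul_mem (inv_mem hu) hv
        · exact Or.inr (by rw [← mul_assoc]; exact mul_mem hu hv)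
        · refine Or.inl ?_
          have : u * v = (y * u)⁻¹ * (y * v) := by
            have e1 : u = y * (y * u) := by rw [← mul_assoc, hyy, one_mul]
            calc u * v = y * (y * u) * v := by rw [← e1]
              _ = ((y * u)⁻¹ * y) * v := by rw [hswap _ (inv_mem hu), inv_inv]
              _ = _ := by group
          rw [this]; exact mul_mem (inv_mem hu) hv
      inv_mem' := by
        rintro u (hu | hu)
        · exact Or.inl (inv_mem hu)
        · refine Or.inr ?_
          have : y * u⁻¹ = y * u := by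
            have e1 : u = y * (y * u) := by rw [← mul_assoc, hyy, one_mul]
            have hyi : y⁻¹ = y := inv_eq_of_mul_eq_one_right hyy
            calc y * u⁻¹ = y * ((y * u)⁻¹ * y⁻¹) := by conv_lhs => rw [e1, mul_inv_rev]
              _ = y * (y * (y * u)) := by rw [hyi, hswap _ (inv_mem hu), inv_inv]
              _ = y * u := by rw [← e1]
          rwa [this] }
  have hMA : ∀ x ∈ zpowers a, (x ∈ M ↔ x ∈ A2) := fun x hx =>
    ⟨fun h => h.resolve_right fun h' =>
      hsh.y_out ((mul_mem_cancel_right hx).1 (hA2le h')), Or.inl⟩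
  have haM : a ∉ M := fun h => by
    have h1 := orderOf_dvd_of_mem_zpowers ((hMA a (mem_zpowers a)).1 h)
    rw [orderOf_pow' a two_ne_zero, hsh.ord, Nat.gcd_eq_right (dvd_pow_self 2 (by omega)), pow_succ,
      Nat.mul_div_cancel _ two_pos] at h1
    have := Nat.le_of_dvd (by positivity) h1
    have : 0 < 2 ^ (k + 2) := by positivity
    omega
  have hodd : ∀ x ∈ zpowers a, x ∉ A2 → a * x ∈ A2 := by
    rintro _ ⟨i, rfl⟩ hx
    simp only at hx ⊢
    rcases Int.even_or_odd i with ⟨l, rfl⟩ | ⟨l, rfl⟩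
    · exact absurd ⟨l, by
        show (a ^ 2) ^ l = _
        rw [← zpow_natCast, ← zpow_mul]; congr 1; push_cast; ring⟩ hx
    · refine ⟨l + 1, ?_⟩
      show (a ^ 2) ^ (l + 1) = _
      rw [← zpow_natCast, ← zpow_mul, ← zpow_one_add]; congr 1; push_cast; ring
  have hM2 : M.index = 2 := by
    refine index_eq_two_iff.2 ⟨a, fun b => ?_⟩
    obtain ⟨x, hx, hb⟩ : ∃ x ∈ zpowers a, b = x ∨ b = y * x := by
      by_cases hb : b ∈ zpowers a
      · exact ⟨b, hb, Or.inl rfl⟩
      · exact ⟨y⁻¹ * b, (mul_mem_iff_of_index_two hsh.index).2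
          (iff_of_false (fun h => hsh.y_out (inv_mem_iff.1 h)) hb), Or.inr (by group)⟩
    have hyM : y ∈ M := Or.inr (by rw [hyy]; exact one_mem _)
    have key : Xor (x * a ∈ M) (x ∈ M) := by
      by_cases hx2 : x ∈ A2
      · refine Or.inr ⟨Or.inl hx2, fun h => haM ?_⟩
        have := M.mul_mem (M.inv_mem (Or.inl hx2)) h
        rwa [inv_mul_cancel_left] at this
      · refine Or.inl ⟨Or.inl ?_, fun h => hx2 ((hMA x hx).1 h)⟩
        obtain ⟨i, rfl⟩ := hx
        simp only at hx2 ⊢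
        rw [((Commute.refl a).zpow_left i).eq]
        exact hodd _ ⟨i, rfl⟩ hx2
    rcases hb with rfl | rfl
    · exact key
    · rwa [mul_assoc, mul_mem_cancel_left hyM, mul_mem_cancel_left hyM]
  haveI : M.Normal := normal_of_index_eq_two hM2
  have hzA2 : (⟨D.z, D.hzS⟩ : (D.S : Subgroup G)) ∈ A2 := by
    have hw : (a ^ 2) ^ 2 ^ (k + 1) ∈ A2 := pow_mem (mem_zpowers _) _
    rcases hsh.z_unique _ (hA2le hw) (by
      rw [← pow_add, ← two_mul, ← pow_succ', ← pow_mul, ← pow_succ', ← hsh.ord, pow_orderOf_eq_one]) with h | h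
    · exfalso
      rw [← pow_mul, ← pow_succ', ← orderOf_dvd_iff_pow_eq_one, hsh.ord] at h
      have := (Nat.pow_dvd_pow_iff_le_right (show 1 < 2 by norm_num)).1 h
      omega
    · rwa [h] at hw
  have hzne : (⟨D.z, D.hzS⟩ : (D.S : Subgroup G)) ≠ 1 := fun h => by
    have := hsh.z_ord
    rw [h, orderOf_one] at this
    omega
  have hzcS : ∀ u : (D.S : Subgroup G), Commute u ⟨D.z, D.hzS⟩ := fun u => Subtype.ext (D.hzc _ u.2)
  have hout' : ∀ x, x ∉ zpowers a → y * x ∈ zpowers a := fun x hx =>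
    (mul_mem_iff_of_index_two hsh.index).2 (iff_of_false hsh.y_out hx)
  have hx0M : y * x0 ∉ A2 := fun h => hx0ne (by
    have e1 : x0 = y * (y * x0) := by rw [← mul_assoc, hyy, one_mul]
    calc x0 * x0 = y * (y * x0) * (y * (y * x0)) := by rw [← e1]
      _ = y * ((y * x0) * y) * (y * x0) := by group
      _ = 1 := by rw [hswap _ h, ← mul_assoc y y, hyy, one_mul, inv_mul_cancel])
  have hinvM : ∀ x : (D.S : Subgroup G), x * x = 1 → x ∈ M := fun x hx2 => by
    by_cases hxA : x ∈ zpowers a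
    · refine (hMA x hxA).2 ?_
      rcases hsh.z_unique x hxA hx2 with rfl | rfl
      · exact one_mem _
      · exact hzA2
    · refine Or.inr ?_
      by_contra hyx
      have hw : x0⁻¹ * x ∈ A2 := by
        have h1 := mul_mem (inv_mem (hodd _ (hout' x0 hx0A) hx0M)) (hodd _ (hout' x hxA) hyx)
        rwa [show (a * (y * x0))⁻¹ * (a * (y * x)) = x0⁻¹ * x by group] at h1
      obtain ⟨i, hi⟩ := hw
      simp only at hi
      have hconj : x0 * (a ^ 2) ^ i * x0⁻¹ = ((a ^ 2) ^ i)⁻¹ := by rw [← conj_zpow, hinv x0 hx0A, inv_zpow]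
      refine hzne ?_
      calc (⟨D.z, D.hzS⟩ : (D.S : Subgroup G)) = ((a ^ 2) ^ i)⁻¹ * (⟨D.z, D.hzS⟩ * (a ^ 2) ^ i) := by
            rw [← (hzcS _).eq, inv_mul_cancel_left]
        _ = (x0 * (a ^ 2) ^ i * x0⁻¹) * ((x0 * x0) * (a ^ 2) ^ i) := by rw [hconj, hx0sq]
        _ = (x0 * (a ^ 2) ^ i) * (x0 * (a ^ 2) ^ i) := by group
        _ = x * x := by rw [hi, mul_inv_cancel_left]
        _ = 1 := hx2
  obtain ⟨K, hKn, hK2, -⟩ := Involutions.ThreePoint.exists_index_two D.S M hM2 fun p q ⟨g, hg⟩ => by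
    have hord : orderOf p = orderOf q := by
      rw [← Subgroup.orderOf_coe, ← Subgroup.orderOf_coe, ← hg]
      exact (SemiconjBy.orderOf_eq g (show SemiconjBy g (p : G) (g * p * g⁻¹) by simp [SemiconjBy]))
    by_cases h2 : p * p = 1
    · refine iff_of_true (hinvM p h2) (hinvM q ?_)
      rw [← pow_two, ← orderOf_dvd_iff_pow_eq_one, ← hord, orderOf_dvd_iff_pow_eq_one, pow_two, h2]
    have hpow : ∀ w : (D.S : Subgroup G), orderOf w = orderOf p → w ^ (orderOf p / 2) = ⟨D.z, D.hzS⟩ := fun w hw => by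
      obtain ⟨j, hj⟩ := D.S.2 p
      obtain ⟨i, -, hi⟩ := (Nat.dvd_prime_pow Nat.prime_two).1 (orderOf_dvd_of_pow_eq_one hj)
      have hi2 : 2 ≤ i := by
        by_contra h
        apply h2
        rw [← pow_two, ← orderOf_dvd_iff_pow_eq_one, hi]
        exact (pow_dvd_pow 2 (show i ≤ 1 by omega)).trans (by simp)
      obtain ⟨l, rfl⟩ : ∃ l, i = l + 2 := ⟨i - 2, by omega⟩
      rw [hi, pow_succ, Nat.mul_div_cancel _ two_pos, pow_succ', pow_mul, pow_two]
      have hw2 : (w * w) ^ 2 ^ l * (w * w) ^ 2 ^ l = 1 := by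
        rw [← pow_add, ← pow_two, ← pow_mul, ← two_mul, ← pow_succ', ← pow_succ', ← hi, ← hw,
          pow_orderOf_eq_one]
      have hne : (w * w) ^ 2 ^ l ≠ 1 := fun h => by
        rw [← pow_two, ← pow_mul, ← pow_succ', ← orderOf_dvd_iff_pow_eq_one, hw, hi] at h
        have := Nat.pow_dvd_pow_iff_le_right (show 1 < 2 by norm_num) |>.1 h
        omega
      have hwA : w * w ∈ zpowers a := mul_self_mem_of_index_two hsh.index w
      exact (hsh.z_unique _ (pow_mem hwA _) hw2).resolve_left hne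
    have hgz : g * D.z * g⁻¹ = D.z := by
      have e1 := congrArg Subtype.val (hpow p rfl)
      have e2 := congrArg Subtype.val (hpow q hord.symm)
      simp only [SubmonoidClass.coe_pow] at e1 e2
      rw [← e1, ← conj_pow, hg, e2, e1]
    have hgS : g ∈ (D.S : Subgroup G) := by
      rw [← D.cent_eq hX]
      exact mem_cent.2 (mul_inv_eq_iff_eq_mul.1 hgz)
    have : q = ⟨g, hgS⟩ * p * ⟨g, hgS⟩⁻¹ := Subtype.ext hg.symm
    rw [this]
    exact ⟨fun h => ‹M.Normal›.conj_mem p h _, fun h => by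
      have := ‹M.Normal›.conj_mem _ h (⟨g, hgS⟩ : (D.S : Subgroup G))⁻¹
      simpa [mul_assoc] using this⟩
  rcases hKn.eq_bot_or_eq_top with h | h
  · rw [h, index_bot] at hK2
    have h1 := (D.S : Subgroup G).card_subgroup_dvd_card
    rw [hK2, hcard] at h1
    have := Nat.le_of_dvd two_pos h1
    omega
  · rw [h, index_top] at hK2
    omega

end Setup

theorem forward [IsSimpleGroup G] (hna : ¬ IsMulCommutative G) (hX : Prop' G) :
    ∃ z : G, orderOf z = 2 ∧ IsPGroup 2 (centralizer ({z} : Set G)) ∧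
      ∃ (F : Type) (_ : Field F) (_ : Fintype F), Odd (Fintype.card F) ∧
        Nonempty (G ≃* Matrix.ProjectiveSpecialLinearGroup (Fin 2) F) := by
  classical
  have hG : ¬ IsCyclic G := fun h => hna h.isMulCommutative
  obtain ⟨D⟩ := exists_setup hG hX
  have hC := D.cent_eq hX
  refine ⟨D.z, D.hz, hC ▸ D.S.2, ?_⟩
  obtain ⟨a, y, N, hsh, hcard, hN⟩ := D.exists_shape
  obtain ⟨c, -, hc, hiso⟩ := Forms.DicksonShapes.dihedral_of (zpowers a) hsh.index inferInstance
    (D.out_invol hX hsh hcard)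
  rw [hc, Nat.card_zpowers, hsh.ord] at hiso
  set O := (Cfsg.oddCore (centralizer ({D.z} : Set G))).map (centralizer ({D.z} : Set G)).subtype with hO
  have hOb : O = ⊥ := by
    have hp : IsPGroup 2 (centralizer ({D.z} : Set G)) := hC ▸ D.S.2
    obtain ⟨k, hk⟩ := IsPGroup.iff_card.1 (hp.to_subgroup (Cfsg.oddCore (centralizer ({D.z} : Set G))))
    have hodd : Odd (Nat.card (Cfsg.oddCore (centralizer ({D.z} : Set G)))) := InvChar.Core.odd_card_oddCore
    rw [hk] at hodd
    have hk0 : k = 0 := by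
      by_contra h
      exact Nat.not_even_iff_odd.2 hodd (Nat.even_pow.2 ⟨even_two, h⟩)
    rw [hO, Subgroup.eq_bot_of_card_eq (Cfsg.oddCore (centralizer ({D.z} : Set G))) (by
      rw [hk, hk0, pow_zero]), Subgroup.map_bot]
  exact S0508.result D.S N (by omega) hiso D.z D.hz D.hzS D.hzc O rfl (fun h => absurd hOb h)
    (fun s _ hs => absurd (mem_centralizer_iff.2 (fun g hg => by
      rw [hOb, coe_bot, Set.mem_singleton_iff] at hg; rw [hg, one_mul, mul_one])) hs)
    (fun Y hY hY1 => absurd (le_bot_iff.1 (hY.trans_eq hOb)) hY1)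

end Cfsg.Agent.SelfCentNoncyclic
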